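import Cfsg.Agent.H50.RG.LStmts

/-!
# S5714, RG-L04: `SL(V)` is transitive on the linearly independent `k`-tuples, `k < dim V`
-/

set_option autoImplicit false

namespace Cfsg.Agent.H679.RG

open Module Cfsg.Agent.H847.Bs Cfsg.Agent.H50.RG

/-- scaling of one basis vector: the determinant is the scalar -/
theorem exists_scale {F V ι : Type*} [Field F] [AddCommGroup V] [Module F V] [Fintype ι] [DecidableEq ι]
    (B : Basis ι F V) (i₀ : ι) (c : F) (hc : c ≠ 0) :
    ∃ h : V ≃ₗ[F] V, (∀ i, i ≠ i₀ → h (B i) = B i) ∧ LinearMap.det (h : V →ₗ[F] V) = c := by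
  set w : ι → F := fun i => if i = i₀ then c else 1 with hw
  set f : V →ₗ[F] V := Matrix.toLin B B (Matrix.diagonal w) with hf
  have hdet : LinearMap.det f = c := by
    rw [hf, LinearMap.det_toLin, Matrix.det_diagonal, Finset.prod_eq_single i₀]
    · simp [hw]
    · intro i _ hi
      simp [hw, hi]
    · intro h
      exact absurd (Finset.mem_univ _) h
  have hfB : ∀ i, f (B i) = w i • B i := by
    intro i
    rw [hf, Matrix.toLin_self, Finset.sum_eq_single i]
    · simp
    · intro j _ hj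
      rw [Matrix.diagonal_apply_ne _ hj, zero_smul]
    · intro h
      exact absurd (Finset.mem_univ _) h
  have hu : IsUnit (LinearMap.det f) := by
    rw [hdet]
    exact isUnit_iff_ne_zero.2 hc
  refine ⟨LinearEquiv.ofIsUnitDet (f := f) (v := B) (v' := B) ?_, ?_, ?_⟩
  · rw [LinearMap.det_toMatrix]
    exact hu
  · intro i hi
    show f (B i) = B i
    rw [hfB]
    simp [hw, hi]
  · rw [← hdet]
    congr 1

/-- a linearly independent `k`-tuple is part of a basis indexed by `Fin k ⊕ Fin m`, `k + m = dim V` -/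
theorem exists_basis_ext {F V : Type*} [Field F] [AddCommGroup V] [Module F V] [Module.Finite F V] {k m : ℕ}
    (hkm : k + m = finrank F V) (b : Fin k → V) (hb : LinearIndependent F b) :
    ∃ B : Basis (Fin k ⊕ Fin m) F V, ∀ i, B (Sum.inl i) = b i := by
  obtain ⟨W', hW'⟩ := Submodule.exists_isCompl (Submodule.span F (Set.range b))
  have h1 : finrank F (Submodule.span F (Set.range b)) = k := by
    rw [finrank_span_eq_card hb, Fintype.card_fin]
  have h2 := Submodule.finrank_add_eq_of_isCompl hW'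
  have h3 : finrank F W' = m := by omega
  refine ⟨((Basis.span hb).prod (Module.finBasisOfFinrankEq F W' h3)).map
    (Submodule.prodEquivOfIsCompl _ W' hW'), fun i => ?_⟩
  rw [Basis.map_apply, Submodule.coe_prodEquivOfIsCompl', Basis.prod_apply_inl_fst, Basis.prod_apply_inl_snd,
    Basis.span_apply]
  simp

/-- RG-L04 -/
theorem l04 : L04 := by
  intro F V _ _ _ _ _ hn k hk b b' hb hb' _ _
  classical
  obtain ⟨m, hm⟩ : ∃ m, k + (m + 1) = finrank F V := ⟨finrank F V - 1 - k, by omega⟩
  obtain ⟨B, hB⟩ := exists_basis_ext hm b hb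
  obtain ⟨B', hB'⟩ := exists_basis_ext hm b' hb'
  set g : V ≃ₗ[F] V := B.equiv B' (Equiv.refl _) with hg
  have hd : LinearMap.det (g : V →ₗ[F] V) ≠ 0 := (LinearEquiv.isUnit_det' g).ne_zero
  obtain ⟨h, h1, h2⟩ := exists_scale B' (Sum.inr 0) (LinearMap.det (g : V →ₗ[F] V))⁻¹ (inv_ne_zero hd)
  refine ⟨h * g, ?_, fun i => ?_⟩
  · show LinearMap.det ((h : V →ₗ[F] V) ∘ₗ (g : V →ₗ[F] V)) = 1
    rw [LinearMap.det_comp, h2, inv_mul_cancel₀ hd]
  · show h (g (b i)) = b' i
    rw [← hB i, hg, Basis.equiv_apply, Equiv.refl_apply, h1 _ (by simp), hB' i]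

end Cfsg.Agent.H679.RG
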